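import Groth.Agent.SGA1Q.Orbits
import Mathlib.RingTheory.Invariant.Basic
import Mathlib.Algebra.Polynomial.GroupRingAction
import Mathlib.AlgebraicGeometry.Morphisms.UniversallyInjective
import Mathlib.AlgebraicGeometry.ResidueField

/-!
# Field valued points of quotients by finite groups

Two points of `X` with values in a field which have the same image in a quotient `X / G` differ by
an element of `G`.
-/

set_option autoImplicit false
set_option backward.isDefEq.respectTransparency false
universe u

open CategoryTheory CategoryTheory.Limits AlgebraicGeometry TopologicalSpace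

namespace Groth.Agent.QuotPts

open Polynomial in
theorem exists_smul_apply_eq {A D : Type*} [CommRing A] [CommRing D] [IsDomain D] {G : Type*}
    [Group G] [Finite G] [MulSemiringAction G A] (χ χ' : A →+* D)
    (h : ∀ a : A, (∀ g : G, g • a = a) → χ a = χ' a) (a : A) :
    ∃ g : G, χ' a = χ (g • a) := by
  classical
  haveI := Fintype.ofFinite G
  have hmap : (MulSemiringAction.charpoly G a).map χ = (MulSemiringAction.charpoly G a).map χ' := by
    ext n
    rw [coeff_map, coeff_map]
    exact h _ fun g => MulSemiringAction.smul_coeff_charpoly a n g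
  have h0 : ((MulSemiringAction.charpoly G a).map χ).eval (χ' a) = 0 := by
    rw [hmap, eval_map_apply, MulSemiringAction.eval_charpoly, map_zero]
  rw [MulSemiringAction.charpoly_eq, Polynomial.map_prod, eval_prod,
    Finset.prod_eq_zero_iff] at h0
  obtain ⟨g, -, hg⟩ := h0
  exact ⟨g, by simpa [sub_eq_zero] using hg⟩

open Polynomial in
/-- Two ring maps to a domain agreeing on invariants differ by an element of the group. -/
theorem exists_smul_eq {A D : Type*} [CommRing A] [CommRing D] [IsDomain D] {G : Type*}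
    [Group G] [Finite G] [MulSemiringAction G A] (χ χ' : A →+* D)
    (h : ∀ a : A, (∀ g : G, g • a = a) → χ a = χ' a) :
    ∃ g : G, ∀ a : A, χ' a = χ (g • a) := by
  classical
  haveI := Fintype.ofFinite G
  by_contra hne
  push Not at hne
  choose c hc using hne
  let e := Fintype.equivFin G
  let P : A[X] := ∑ g : G, C (c g) * X ^ (e g : ℕ)
  obtain ⟨g₀, hg₀⟩ := exists_smul_apply_eq (G := G) (mapRingHom χ) (mapRingHom χ')
    (fun p hp => by
      ext n
      simp only [coe_mapRingHom, coeff_map]
      exact h _ fun g => by rw [← Polynomial.coeff_smul, hp g]) P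
  have hco : ∀ g : G, P.coeff (e g : ℕ) = c g := by
    intro g
    simp only [P, finset_sum_coeff, coeff_C_mul, coeff_X_pow]
    rw [Finset.sum_eq_single g]
    · simp
    · intro b _ hb
      rw [if_neg fun hh => hb (e.injective (Fin.ext hh.symm)), mul_zero]
    · simp
  have h1 := congrArg (fun q => Polynomial.coeff q (e g₀ : ℕ)) hg₀
  simp only [coe_mapRingHom, coeff_map] at h1
  rw [Polynomial.coeff_smul, hco] at h1
  exact hc g₀ h1

variable {X Y : Scheme.{u}} {G : Type u} [Group G] [Finite G] {ρ : G →* Aut X} {p : X ⟶ Y}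

/-- Two field valued points with the same image in the quotient differ by an element of `G`. -/
theorem exists_comp_eq (hp : SGA1.IsQuot ρ p) {K : Type u} [Field K]
    (a b : Spec (.of K) ⟶ X) (h : a ≫ p = b ≫ p) : ∃ g : G, a ≫ (ρ g).hom = b := by
  haveI := hp.affine
  let pt : (Spec (.of K) : Scheme.{u}) := default
  obtain ⟨U, hU, hyU, -⟩ :=
    exists_isAffineOpen_mem_and_subset (x := (a ≫ p) pt) (U := ⊤) trivial
  have hA : IsAffineOpen (p ⁻¹ᵁ U) := hU.preimage p
  have key : ∀ c : Spec (.of K) ⟶ X, (c ≫ p) pt ∈ U → ∃ χ : Γ(X, p ⁻¹ᵁ U) ⟶ .of K,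
      c = Spec.map χ ≫ hA.fromSpec := by
    intro c hc
    have hr : Set.range c ⊆ Set.range hA.fromSpec := by
      rw [hA.range_fromSpec]
      rintro _ ⟨t, rfl⟩
      rw [Subsingleton.elim t pt]
      exact hc
    refine ⟨Spec.preimage (IsOpenImmersion.lift hA.fromSpec c hr), ?_⟩
    rw [Spec.map_preimage, IsOpenImmersion.lift_fac]
  obtain ⟨χ, ha⟩ := key a hyU
  obtain ⟨χ', hb⟩ := key b (h ▸ hyU)
  have e := IsAffineOpen.SpecMap_appLE_fromSpec p hU hA le_rfl
  rw [← Scheme.Hom.app_eq_appLE] at e
  have hagree : p.app U ≫ χ = p.app U ≫ χ' := by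
    apply Spec.map_injective
    rw [← cancel_mono hU.fromSpec]
    simp only [Spec.map_comp, Category.assoc, e]
    rw [← Category.assoc, ← ha, ← Category.assoc, ← hb]
    exact h
  letI := SGA1Q.secAction ρ (p ⁻¹ᵁ U) (fun g => SGA1.preimage_le_of_inv ρ p hp.inv g U)
  letI := (p.app U).hom.toAlgebra
  obtain ⟨-, hinv⟩ := SGA1Q.isInvariant_of_isQuot hp U
  obtain ⟨g, hg⟩ := exists_smul_eq (G := G) χ.hom χ'.hom fun s hs => by
    obtain ⟨t, rfl⟩ := hinv.isInvariant s hs
    exact congr(($hagree).hom t)
  refine ⟨g⁻¹, ?_⟩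
  have e' := IsAffineOpen.SpecMap_appLE_fromSpec (ρ g⁻¹).hom hA hA
    (SGA1.preimage_le_of_inv ρ p hp.inv g⁻¹ U)
  have hχ : χ' = (ρ g⁻¹).hom.appLE _ _ (SGA1.preimage_le_of_inv ρ p hp.inv g⁻¹ U) ≫ χ := by
    ext s
    exact hg s
  rw [ha, hb, hχ, Spec.map_comp, Category.assoc, Category.assoc, e']

/-- A morphism out of the spectrum of a field is determined by its restriction to any field
extension. -/
theorem specMap_cancel {K Ω : Type u} [Field K] [Field Ω] (π : Spec (.of Ω) ⟶ Spec (.of K))
    {Z : Scheme.{u}} (a b : Spec (.of K) ⟶ Z) (h : π ≫ a = π ≫ b) : a = b := by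
  let pt : (Spec (.of K) : Scheme.{u}) := default
  let pt' : (Spec (.of Ω) : Scheme.{u}) := default
  have hpt : a pt = b pt := by
    have := congr(($h).base pt')
    simp only [Scheme.Hom.comp_base, TopCat.comp_app] at this
    rw [Subsingleton.elim (π.base pt') pt] at this
    exact this
  obtain ⟨U, hU, hxU, -⟩ := exists_isAffineOpen_mem_and_subset (x := a pt) (U := ⊤) trivial
  have key : ∀ c : Spec (.of K) ⟶ Z, c pt ∈ U → ∃ χ : Γ(Z, U) ⟶ .of K,
      c = Spec.map χ ≫ hU.fromSpec := by
    intro c hc
    have hr : Set.range c ⊆ Set.range hU.fromSpec := by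
      rw [hU.range_fromSpec]
      rintro _ ⟨t, rfl⟩
      rw [Subsingleton.elim t pt]
      exact hc
    refine ⟨Spec.preimage (IsOpenImmersion.lift hU.fromSpec c hr), ?_⟩
    rw [Spec.map_preimage, IsOpenImmersion.lift_fac]
  obtain ⟨χ, rfl⟩ := key a hxU
  obtain ⟨χ', rfl⟩ := key b (hpt ▸ hxU)
  obtain ⟨j, rfl⟩ := Spec.map_surjective π
  rw [← Category.assoc, ← Category.assoc, cancel_mono, ← Spec.map_comp, ← Spec.map_comp] at h
  have h' := Spec.map_injective h
  congr 2
  ext s
  exact j.hom.injective congr(($h').hom s)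

/-- To check that `m` is universally injective it is enough to test field valued points which lift
along a surjection `r`. -/
theorem universallyInjective_of_lifts {X' Y' Z : Scheme.{u}} (r : X' ⟶ Y') [Surjective r]
    (m : Y' ⟶ Z)
    (H : ∀ (Ω : Type u) [Field Ω] (a b : Spec (.of Ω) ⟶ X'),
      a ≫ r ≫ m = b ≫ r ≫ m → a ≫ r = b ≫ r) :
    UniversallyInjective m := by
  refine ((tfae_universallyInjective m).out 0 1 rfl rfl).mpr fun K _ a b hab => ?_
  haveI : Surjective (pullback.fst a r) :=
    MorphismProperty.pullback_fst (P := @Surjective) _ _ ‹_›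
  haveI : Surjective (pullback.fst b r) :=
    MorphismProperty.pullback_fst (P := @Surjective) _ _ ‹_›
  haveI : Surjective (pullback.fst (pullback.fst a r) (pullback.fst b r)) :=
    MorphismProperty.pullback_fst (P := @Surjective) _ _ ‹_›
  let W := pullback (pullback.fst a r) (pullback.fst b r)
  obtain ⟨s, -⟩ := (pullback.fst a r).surjective default
  obtain ⟨w, -⟩ := (pullback.fst (pullback.fst a r) (pullback.fst b r)).surjective s
  let i : Spec (.of (W.residueField w)) ⟶ W := W.fromSpecResidueField w
  let π := i ≫ pullback.fst _ _ ≫ pullback.fst a r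
  let a' := i ≫ pullback.fst _ _ ≫ pullback.snd a r
  let b' := i ≫ pullback.snd _ _ ≫ pullback.snd b r
  have ea : a' ≫ r = π ≫ a := by
    simp only [a', π, Category.assoc]
    rw [← pullback.condition (f := a) (g := r)]
  have eb : b' ≫ r = π ≫ b := by
    simp only [b', π, Category.assoc]
    rw [← pullback.condition (f := b) (g := r), pullback.condition_assoc]
  refine specMap_cancel π a b ?_
  rw [← ea, ← eb]
  exact H _ a' b' (by rw [reassoc_of% ea, reassoc_of% eb]; exact congr(π ≫ $hab))

end Groth.Agent.QuotPts
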